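import Mathlib.RingTheory.QuasiFinite.Basic
import Mathlib.RingTheory.Spectrum.Prime.Chevalley
import Mathlib.RingTheory.Etale.Pi
import Mathlib.LinearAlgebra.FreeModule.Finite.Matrix
import Mathlib.FieldTheory.IsAlgClosed.AlgebraicClosure
import Mathlib.Topology.Spectral.ConstructibleTopology
import Mathlib.RingTheory.Spectrum.Prime.ConstructibleSet

/-! Over a constructible cover, a quasi-finite algebra of finite presentation is a disjoint union
of sections up to nilpotents. -/

set_option autoImplicit false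

universe u

open scoped TensorProduct

namespace Groth.Agent.QFDecomp

variable {A R : Type u} [CommRing A] [CommRing R] [Algebra A R]

section Sect

variable {B : Type u} [CommRing B] [Algebra A B]

/-- the section of `B ⊗ R` over `B` given by `t` -/
noncomputable def sect (t : R →ₐ[A] B) : B ⊗[A] R →ₐ[B] B :=
  Algebra.TensorProduct.lift (AlgHom.id B B) t fun _ _ => Commute.all _ _

@[simp] theorem sect_tmul (t : R →ₐ[A] B) (b : B) (r : R) : sect t (b ⊗ₜ r) = b * t r := by
  simp [sect]

theorem sect_surjective (t : R →ₐ[A] B) : Function.Surjective (sect t) :=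
  fun b => ⟨b ⊗ₜ 1, by simp⟩

theorem ker_sect_le (t : R →ₐ[A] B) (q : Ideal (B ⊗[A] R))
    (h : ∀ r : R, (1 : B) ⊗ₜ[A] r - t r ⊗ₜ[A] (1 : R) ∈ q) :
    RingHom.ker (sect t) ≤ q := by
  have key : ∀ x : B ⊗[A] R, x - sect t x ⊗ₜ[A] (1 : R) ∈ q := by
    intro x
    induction x with
    | zero => simp
    | tmul b r =>
      have := q.mul_mem_left (b ⊗ₜ[A] (1 : R)) (h r)
      simpa [mul_sub] using this
    | add x y hx hy =>
      rw [map_add, TensorProduct.add_tmul]
      have := q.add_mem hx hy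
      rwa [show x + y - (sect t x ⊗ₜ[A] (1 : R) + sect t y ⊗ₜ[A] (1 : R)) =
        (x - sect t x ⊗ₜ[A] (1 : R)) + (y - sect t y ⊗ₜ[A] (1 : R)) by abel]
  intro x hx
  simpa [RingHom.mem_ker.1 hx] using key x

theorem one_tmul_sub_mem_ker (t : R →ₐ[A] B) (r : R) :
    (1 : B) ⊗ₜ[A] r - t r ⊗ₜ[A] (1 : R) ∈ RingHom.ker (sect t) := by
  simp [RingHom.mem_ker]

/-- `q` contains the kernel of one of the sections -/
def Covered {n : ℕ} (t : Fin n → (R →ₐ[A] B)) (q : Ideal (B ⊗[A] R)) : Prop :=
  ∃ i, RingHom.ker (sect (t i)) ≤ q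

theorem pi_sect_surjective {n : ℕ} (t : Fin n → (R →ₐ[A] B))
    (h : ∀ i j, i ≠ j → ∃ r, IsUnit (t i r - t j r)) :
    Function.Surjective fun (x : B ⊗[A] R) (i : Fin n) => sect (t i) x := by
  classical
  choose r hr using h
  let c : Fin n → Fin n → B ⊗[A] R := fun i j => if hij : i = j then 1 else
    ((↑((hr i j hij).unit⁻¹) : B) ⊗ₜ[A] (r i j hij) -
      ((↑((hr i j hij).unit⁻¹) : B) * t j (r i j hij)) ⊗ₜ[A] (1 : R))
  have h1 : ∀ i j, sect (t i) (c i j) = 1 := by
    intro i j
    by_cases hij : i = j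
    · simp only [c, dif_pos hij]
      exact map_one (sect (t i))
    · simp only [c, dif_neg hij, map_sub, sect_tmul, map_one, mul_one, ← mul_sub]
      exact IsUnit.val_inv_mul _
  have h0 : ∀ i j, i ≠ j → sect (t j) (c i j) = 0 := by
    intro i j hij
    simp [c, dif_neg hij]
  intro v
  refine ⟨∑ i, (v i ⊗ₜ[A] (1 : R)) * ∏ j, c i j, funext fun k => ?_⟩
  dsimp only
  rw [map_sum, Finset.sum_eq_single k]
  · simp [map_prod, h1]
  · intro i _ hik
    rw [map_mul, map_prod, Finset.prod_eq_zero (Finset.mem_univ k) (h0 i k hik), mul_zero]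
  · simp

end Sect

/-- finitely many maps to a field factor through one algebra of finite presentation -/
theorem exists_common_lift [Algebra.FinitePresentation A R] (Ω : Type u) [CommRing Ω] [Algebra A Ω]
    (n : ℕ) (s : Fin n → (R →ₐ[A] Ω)) :
    ∃ (B : Type u) (_ : CommRing B) (_ : Algebra A B) (_ : Algebra.FinitePresentation A B)
      (φ : B →ₐ[A] Ω) (t : Fin n → (R →ₐ[A] B)), ∀ i, φ.comp (t i) = s i := by
  induction n with
  | zero => exact ⟨A, inferInstance, inferInstance, inferInstance, Algebra.ofId A Ω,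
      fun i => i.elim0, fun i => i.elim0⟩
  | succ n ih =>
    obtain ⟨B, _, _, _, φ, t, ht⟩ := ih (fun i => s i.succ)
    haveI : Algebra.FinitePresentation A (B ⊗[A] R) := Algebra.FinitePresentation.trans A B _
    refine ⟨B ⊗[A] R, inferInstance, inferInstance, inferInstance,
      Algebra.TensorProduct.productMap φ (s 0),
      Fin.cons Algebra.TensorProduct.includeRight
        (fun i => Algebra.TensorProduct.includeLeft.comp (t i)), fun i => ?_⟩
    refine Fin.cases ?_ (fun j => ?_) i
    · ext r; simp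
    · ext r; simp [← ht j]

/-- quasi-finite: only finitely many maps to a field over a point -/
theorem finite_algHom [Algebra.QuasiFinite A R] (p : Ideal A) [p.IsPrime] (Ω : Type u) [Field Ω]
    [Algebra A Ω] [Algebra p.ResidueField Ω] [IsScalarTower A p.ResidueField Ω] :
    Finite (R →ₐ[A] Ω) := by
  refine Finite.of_injective (β := p.Fiber R →ₐ[p.ResidueField] Ω)
    (fun s => Algebra.TensorProduct.lift (Algebra.ofId _ _) s fun _ _ => Commute.all _ _) ?_
  intro s s' h
  ext r
  simpa using DFunLike.congr_fun h (1 ⊗ₜ r)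

section Covered

variable {B : Type u} [CommRing B] [Algebra A B]

theorem covered_of_kernel [Algebra.QuasiFinite A R] {Ω : Type u} [Field Ω] [IsAlgClosed Ω]
    [Algebra A Ω] (φ : B →ₐ[A] Ω) {n : ℕ} (t : Fin n → (R →ₐ[A] B))
    (hall : ∀ s : R →ₐ[A] Ω, ∃ i, φ.comp (t i) = s)
    (q : Ideal (B ⊗[A] R)) [q.IsPrime]
    (hq : q.comap (algebraMap B (B ⊗[A] R)) = RingHom.ker φ.toRingHom) :
    Covered t q := by
  let P : Ideal B := q.under B
  have hP : P = RingHom.ker φ.toRingHom := hq
  haveI : q.LiesOver P := ⟨rfl⟩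
  letI : Algebra (Localization.AtPrime P) (Localization.AtPrime q) :=
    Localization.AtPrime.algebraOfLiesOver P q
  haveI : Module.Finite P.ResidueField q.ResidueField := inferInstance
  letI : Algebra P.ResidueField Ω := (Ideal.ResidueField.lift P φ.toRingHom hP.le
    (fun b (hb : b ∉ P) => isUnit_iff_ne_zero.2 fun h0 => hb (hP ▸ RingHom.mem_ker.2 h0))).toAlgebra
  have hcomp : ∀ b, algebraMap P.ResidueField Ω (algebraMap B P.ResidueField b) = φ b := fun b => by
    simp [RingHom.algebraMap_toAlgebra]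
  let e : q.ResidueField →ₐ[P.ResidueField] Ω := IsAlgClosed.lift
  let g : B ⊗[A] R →+* Ω := e.toRingHom.comp (algebraMap _ q.ResidueField)
  have hg : ∀ b : B, g (algebraMap B (B ⊗[A] R) b) = φ b := fun b => by
    show e (algebraMap (B ⊗[A] R) q.ResidueField (algebraMap B _ b)) = _
    rw [← IsScalarTower.algebraMap_apply, IsScalarTower.algebraMap_apply B P.ResidueField,
      e.commutes, hcomp]
  let s : R →ₐ[A] Ω := ⟨g.comp Algebra.TensorProduct.includeRight.toRingHom, fun a => by
    show g ((1 : B) ⊗ₜ[A] algebraMap A R a) = _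
    rw [Algebra.algebraMap_eq_smul_one, ← TensorProduct.smul_tmul, ← φ.commutes a, ← hg,
      Algebra.algebraMap_eq_smul_one (R := A) (A := B)]
    rfl⟩
  obtain ⟨i, hi⟩ := hall s
  refine ⟨i, ker_sect_le (t i) q fun r => ?_⟩
  rw [← Ideal.algebraMap_residueField_eq_zero (I := q),
    ← (RingHom.injective e.toRingHom).eq_iff, map_zero]
  show g _ = 0
  rw [map_sub, sub_eq_zero]
  exact (DFunLike.congr_fun hi r).symm.trans (hg (t i r)).symm

end Covered

/-- one constructible piece -/
theorem exists_piece [Algebra.FinitePresentation A R] [Algebra.QuasiFinite A R]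
    (p : PrimeSpectrum A) :
    ∃ (B : Type u) (_ : CommRing B) (_ : Algebra A B) (_ : Algebra.FinitePresentation A B)
      (n : ℕ) (π : B ⊗[A] R →ₐ[B] (Fin n → B)),
      p ∈ Set.range (PrimeSpectrum.comap (algebraMap A B)) ∧ Function.Surjective π ∧
      ∀ q : PrimeSpectrum (B ⊗[A] R), RingHom.ker π.toRingHom ≤ q.asIdeal := by
  classical
  let κ := p.asIdeal.ResidueField
  let Ω := AlgebraicClosure κ
  haveI : Finite (R →ₐ[A] Ω) := finite_algHom p.asIdeal Ω
  let n := Nat.card (R →ₐ[A] Ω)
  let s : Fin n ≃ (R →ₐ[A] Ω) := (Finite.equivFin _).symm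
  obtain ⟨B₀, _, _, _, φ₀, t₀, ht₀⟩ := exists_common_lift Ω n s
  -- separate the sections
  have hsep : ∀ i j, i ≠ j → ∃ r, s i r ≠ s j r := by
    intro i j hij
    by_contra hc
    exact hij (s.injective (AlgHom.ext fun r => not_not.1 fun hne => hc ⟨r, hne⟩))
  choose r hr using hsep
  let d : B₀ := ∏ i, ∏ j, if h : i = j then 1 else t₀ i (r i j h) - t₀ j (r i j h)
  have hd : IsUnit (φ₀ d) := by
    rw [isUnit_iff_ne_zero, map_prod, Finset.prod_ne_zero_iff]
    intro i _
    rw [map_prod, Finset.prod_ne_zero_iff]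
    intro j _
    split
    · simp
    · next h =>
      rw [map_sub, sub_ne_zero]
      have hi := DFunLike.congr_fun (ht₀ i) (r i j h)
      have hj := DFunLike.congr_fun (ht₀ j) (r i j h)
      simp only [AlgHom.comp_apply] at hi hj
      rw [hi, hj]
      exact hr i j h
  let B₁ := Localization.Away d
  haveI : Algebra.FinitePresentation B₀ B₁ := IsLocalization.Away.finitePresentation d
  haveI : Algebra.FinitePresentation A B₁ := Algebra.FinitePresentation.trans A B₀ B₁
  have hφ₀d : ∀ y : Submonoid.powers d, IsUnit (φ₀ y) := by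
    rintro ⟨_, m, rfl⟩
    rw [map_pow]
    exact hd.pow m
  let φ₁ : B₁ →ₐ[A] Ω := IsLocalization.liftAlgHom (M := Submonoid.powers d) (f := φ₀) hφ₀d
  let t₁ : Fin n → (R →ₐ[A] B₁) := fun i => (IsScalarTower.toAlgHom A B₀ B₁).comp (t₀ i)
  have ht₁ : ∀ i, φ₁.comp (t₁ i) = s i := fun i => by
    ext x
    have := DFunLike.congr_fun (ht₀ i) x
    simpa [φ₁, t₁, IsLocalization.lift_eq] using this
  have hunit : ∀ i j, i ≠ j → ∃ x, IsUnit (t₁ i x - t₁ j x) := by
    intro i j hij
    refine ⟨r i j hij, isUnit_of_dvd_unit (y := algebraMap B₀ B₁ d) ?_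
      (IsLocalization.Away.algebraMap_isUnit (S := B₁) d)⟩
    have h1 : (t₀ i (r i j hij) - t₀ j (r i j hij)) ∣ d :=
      dvd_trans (by rw [dif_neg hij]) ((Finset.dvd_prod_of_mem _ (Finset.mem_univ j)).trans
        (Finset.dvd_prod_of_mem _ (Finset.mem_univ i)))
    simpa [t₁] using map_dvd (algebraMap B₀ B₁) h1
  -- the constructible set over which everything is covered
  let C : Set (PrimeSpectrum (B₁ ⊗[A] R)) :=
    ⋃ i, PrimeSpectrum.zeroLocus (RingHom.ker (sect (t₁ i)) : Set (B₁ ⊗[A] R))
  have hC : Topology.IsConstructible C := by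
    refine Topology.IsConstructible.iUnion fun i => ?_
    obtain ⟨G, hG⟩ := Algebra.FinitePresentation.ker_fG_of_surjective (sect (t₁ i))
      (sect_surjective _)
    rw [show (RingHom.ker (sect (t₁ i)) : Set (B₁ ⊗[A] R)) =
      ((RingHom.ker (sect (t₁ i)).toRingHom : Ideal _) : Set (B₁ ⊗[A] R)) from rfl, ← hG,
      PrimeSpectrum.zeroLocus_span, ← Topology.isConstructible_compl]
    exact (PrimeSpectrum.isRetrocompact_zeroLocus_compl G.finite_toSet).isConstructible
      (PrimeSpectrum.isClosed_zeroLocus _).isOpen_compl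
  let T : Set (PrimeSpectrum B₁) :=
    (PrimeSpectrum.comap (algebraMap B₁ (B₁ ⊗[A] R)) '' Cᶜ)ᶜ
  have hT : Topology.IsConstructible T :=
    (PrimeSpectrum.isConstructible_comap_image
      (RingHom.finitePresentation_algebraMap.2 inferInstance) hC.compl).compl
  let p₁ : PrimeSpectrum B₁ := ⟨RingHom.ker φ₁.toRingHom, RingHom.ker_isPrime _⟩
  have hp₁ : p₁ ∈ T := by
    rintro ⟨q, hq, hqp⟩
    refine hq (Set.mem_iUnion.2 ?_)
    exact covered_of_kernel φ₁ t₁ (fun s' => ⟨s.symm s', (ht₁ _).trans (s.apply_symm_apply s')⟩)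
      q.asIdeal (congrArg PrimeSpectrum.asIdeal hqp)
  obtain ⟨S, hS⟩ := PrimeSpectrum.exists_constructibleSetData_iff.2 hT
  rw [← hS, PrimeSpectrum.ConstructibleSetData.toSet, Set.mem_iUnion₂] at hp₁
  obtain ⟨⟨f, m, g⟩, hfgS, hp₁g, hp₁f⟩ := hp₁
  simp only [PrimeSpectrum.mem_zeroLocus, Set.range_subset_iff, Set.singleton_subset_iff] at hp₁g hp₁f
  let I : Ideal B₁ := Ideal.span (Set.range g)
  let B := Localization.Away (Ideal.Quotient.mk I f)
  haveI : Algebra.FinitePresentation B₁ (B₁ ⧸ I) :=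
    Algebra.FinitePresentation.quotient (Submodule.fg_span (Set.finite_range g))
  haveI : Algebra.FinitePresentation (B₁ ⧸ I) B := IsLocalization.Away.finitePresentation (Ideal.Quotient.mk I f)
  haveI : Algebra.FinitePresentation B₁ B := Algebra.FinitePresentation.trans B₁ (B₁ ⧸ I) B
  haveI : Algebra.FinitePresentation A B := Algebra.FinitePresentation.trans A B₁ B
  let ψ : B₁ →ₐ[A] B := IsScalarTower.toAlgHom A B₁ B
  let t : Fin n → (R →ₐ[A] B) := fun i => ψ.comp (t₁ i)
  refine ⟨B, inferInstance, inferInstance, inferInstance, n, AlgHom.pi fun i => sect (t i),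
    ?_, ?_, fun q => ?_⟩
  · -- `p` is in the image
    let φI : B₁ ⧸ I →+* Ω := Ideal.Quotient.lift I φ₁.toRingHom (fun a ha => by
      have hle : I ≤ p₁.asIdeal := Ideal.span_le.2 (Set.range_subset_iff.2 hp₁g)
      exact hle ha)
    have hu : IsUnit (φI (Ideal.Quotient.mk I f)) := isUnit_iff_ne_zero.2 fun h => hp₁f h
    let φ₂ : B →+* Ω := IsLocalization.Away.lift (Ideal.Quotient.mk I f) hu
    refine ⟨⟨RingHom.ker φ₂, RingHom.ker_isPrime _⟩, PrimeSpectrum.ext ?_⟩
    have hA : φ₂.comp (algebraMap A B) = algebraMap A Ω := by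
      ext a
      rw [RingHom.comp_apply, IsScalarTower.algebraMap_apply A B₁ B,
        IsScalarTower.algebraMap_apply B₁ (B₁ ⧸ I) B]
      show IsLocalization.Away.lift (Ideal.Quotient.mk I f) hu (algebraMap (B₁ ⧸ I) B _) = _
      rw [IsLocalization.Away.lift_eq]
      exact φ₁.commutes a
    rw [PrimeSpectrum.comap_asIdeal, RingHom.comap_ker, hA, IsScalarTower.algebraMap_eq A κ Ω,
      ← RingHom.comap_ker, (RingHom.injective_iff_ker_eq_bot _).1 (algebraMap κ Ω).injective,
      ← RingHom.ker_eq_comap_bot]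
    exact Ideal.ker_algebraMap_residueField p.asIdeal
  · exact pi_sect_surjective t fun i j hij => by
      obtain ⟨x, hx⟩ := hunit i j hij
      exact ⟨x, by simpa [t, ψ] using hx.map (algebraMap B₁ B)⟩
  · -- every point is covered
    let h : B₁ ⊗[A] R →+* B ⊗[A] R := (Algebra.TensorProduct.map ψ (AlgHom.id A R)).toRingHom
    let q₁ : PrimeSpectrum (B₁ ⊗[A] R) := PrimeSpectrum.comap h q
    let x₁ : PrimeSpectrum B₁ := PrimeSpectrum.comap (algebraMap B₁ (B₁ ⊗[A] R)) q₁
    let y : PrimeSpectrum B := PrimeSpectrum.comap (algebraMap B (B ⊗[A] R)) q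
    have hxy : ∀ b, b ∈ x₁.asIdeal ↔ algebraMap B₁ B b ∈ y.asIdeal := fun b => by
      show h (b ⊗ₜ[A] (1 : R)) ∈ q.asIdeal ↔ (algebraMap B₁ B b) ⊗ₜ[A] (1 : R) ∈ q.asIdeal
      simp [h, ψ]
    have hgy : ∀ i, g i ∈ x₁.asIdeal := fun i => by
      rw [hxy, IsScalarTower.algebraMap_apply B₁ (B₁ ⧸ I) B, Ideal.Quotient.algebraMap_eq,
        (Ideal.Quotient.eq_zero_iff_mem (I := I)).2 (Ideal.subset_span (Set.mem_range_self i)), map_zero]
      exact zero_mem _
    have hfy : f ∉ x₁.asIdeal := fun hm => by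
      rw [hxy, IsScalarTower.algebraMap_apply B₁ (B₁ ⧸ I) B, Ideal.Quotient.algebraMap_eq] at hm
      exact y.2.ne_top (Ideal.eq_top_of_isUnit_mem _ hm
        (IsLocalization.Away.algebraMap_isUnit _))
    have hxT : x₁ ∈ T := by
      rw [← hS]
      refine Set.mem_iUnion₂.2 ⟨_, hfgS, ?_, ?_⟩
      · rintro _ ⟨i, rfl⟩; exact hgy i
      · simpa [PrimeSpectrum.mem_zeroLocus] using hfy
    have hq₁ : q₁ ∈ C := by
      by_contra hc
      exact hxT ⟨q₁, hc, rfl⟩
    obtain ⟨i, hi⟩ := Set.mem_iUnion.1 hq₁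
    intro z hz
    refine ker_sect_le (t i) q.asIdeal (fun x => ?_) ?_
    · have := hi (one_tmul_sub_mem_ker (t₁ i) x)
      simpa [q₁, h, t, ψ] using this
    · rw [RingHom.mem_ker] at hz ⊢
      exact congrFun hz i

theorem isClopen_basicOpen (f : A) :
    IsClopen (WithTopology.ofTopology ⁻¹' (PrimeSpectrum.basicOpen f : Set (PrimeSpectrum A)) :
      Set (WithConstructibleTopology (PrimeSpectrum A))) := by
  constructor
  · rw [← isOpen_compl_iff, WithConstructibleTopology.isOpen_iff]
    exact IsCompact.isOpen_constructibleTopology_of_isClosed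
      (s := (PrimeSpectrum.basicOpen f : Set (PrimeSpectrum A))ᶜ)
      (by rw [compl_compl]; exact PrimeSpectrum.isCompact_basicOpen f)
      (PrimeSpectrum.basicOpen f).2.isClosed_compl
  · rw [WithConstructibleTopology.isOpen_iff]
    exact (PrimeSpectrum.isCompact_basicOpen f).isOpen_constructibleTopology_of_isOpen
      (PrimeSpectrum.basicOpen f).2

/-- constructible sets are open in the constructible topology -/
theorem isOpen_preimage_of_isConstructible {s : Set (PrimeSpectrum A)}
    (hs : Topology.IsConstructible s) :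
    IsOpen (WithTopology.ofTopology ⁻¹' s : Set (WithConstructibleTopology (PrimeSpectrum A))) := by
  induction s, hs using Topology.IsConstructible.induction_of_isTopologicalBasis
      _ (PrimeSpectrum.isTopologicalBasis_basic_opens (R := A)) with
  | isCompact_basis i => exact PrimeSpectrum.isCompact_basicOpen i
  | sdiff i s hs =>
    rw [Set.preimage_sdiff, Set.preimage_iUnion₂]
    exact (isClopen_basicOpen i).isOpen.sdiff
      (hs.isClosed_biUnion fun j _ => (isClopen_basicOpen j).isClosed)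
  | union s hs t ht Hs Ht => exact Hs.union Ht

theorem exists_finite_cover {ι : Type u} (s : ι → Set (PrimeSpectrum A))
    (hs : ∀ i, Topology.IsConstructible (s i)) (hc : ∀ p, ∃ i, p ∈ s i) :
    ∃ F : Finset ι, ∀ p, ∃ i ∈ F, p ∈ s i := by
  obtain ⟨F, hF⟩ := isCompact_univ.elim_finite_subcover
    (fun i => (WithTopology.ofTopology ⁻¹' s i : Set (WithConstructibleTopology (PrimeSpectrum A))))
    (fun i => isOpen_preimage_of_isConstructible (hs i))
    (fun x _ => Set.mem_iUnion.2 (hc _))
  refine ⟨F, fun p => ?_⟩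
  obtain ⟨i, hi, hpi⟩ := Set.mem_iUnion₂.1 (hF (Set.mem_univ (WithTopology.toTopology _ p)))
  exact ⟨i, hi, hpi⟩

/-- the ring form of the decomposition -/
theorem exists_decomposition [Algebra.FinitePresentation A R] [Algebra.QuasiFinite A R] :
    ∃ (B : Type u) (_ : CommRing B) (_ : Algebra A B) (C : Type u) (_ : CommRing C) (_ : Algebra B C)
      (π : B ⊗[A] R →ₐ[B] C), Module.Finite B C ∧ Algebra.Etale B C ∧ Function.Surjective π ∧
      Function.Surjective (PrimeSpectrum.comap π.toRingHom) ∧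
      Function.Surjective (PrimeSpectrum.comap (algebraMap A B)) := by
  classical
  choose B' hB₁ hB₂ hB₃ n π hp hπ hker using fun p => exists_piece (R := R) (A := A) p
  obtain ⟨F, hF⟩ := exists_finite_cover (fun p => Set.range (PrimeSpectrum.comap (algebraMap A (B' p))))
    (fun p => PrimeSpectrum.isConstructible_range_comap
      (RingHom.finitePresentation_algebraMap.2 (hB₃ p))) (fun p => ⟨p, hp p⟩)
  let B := ∀ x : F, B' x.1
  letI algx : ∀ x : F, Algebra B (B' x.1) := fun x => (Pi.evalRingHom (fun x : F => B' x.1) x).toAlgebra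
  haveI : ∀ x : F, IsScalarTower A B (B' x.1) := fun x => IsScalarTower.of_algebraMap_eq fun a => rfl
  have hev : ∀ (x : F) (v : B), algebraMap B (B' x.1) v = v x := fun _ _ => rfl
  have hsurj : ∀ x : F, Function.Surjective (algebraMap B (B' x.1)) := fun x b =>
    ⟨Pi.single x b, by rw [hev]; exact Pi.single_eq_same (M := fun x : F => B' x.1) x b⟩
  have hkerx : ∀ x : F, RingHom.ker (algebraMap B (B' x.1)) = Ideal.span {1 - Pi.single x 1} := by
    intro x
    ext v
    rw [RingHom.mem_ker, Ideal.mem_span_singleton']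
    constructor
    · intro hv
      refine ⟨v, funext fun y => ?_⟩
      rw [hev] at hv
      show v y * (1 - (Pi.single x 1 : ∀ x : F, B' x.1) y) = v y
      by_cases h : y = x
      · subst h
        rw [Pi.single_eq_same, sub_self, mul_zero, hv]
      · rw [Pi.single_eq_of_ne h, sub_zero, mul_one]
    · rintro ⟨w, rfl⟩
      rw [hev]
      show w x * (1 - (Pi.single x 1 : ∀ x : F, B' x.1) x) = 0
      rw [Pi.single_eq_same, sub_self, mul_zero]
  have hidem : ∀ x : F, IsIdempotentElem (Pi.single x 1 : B) := fun x => funext fun y => by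
    by_cases h : y = x
    · subst h; simp
    · simp [Pi.single_eq_of_ne h]
  haveI : ∀ x : F, Algebra.Etale B (B' x.1) := fun x =>
    haveI := IsLocalization.away_of_isIdempotentElem (hidem x) (hkerx x) (hsurj x)
    Algebra.Etale.of_isLocalizationAway (Pi.single x 1 : B)
  haveI : ∀ x : F, Module.Finite B (B' x.1) := fun x =>
    Module.Finite.of_surjective (Algebra.linearMap B (B' x.1)) (hsurj x)
  let C := ∀ x : F, Fin (n x.1) → B' x.1
  haveI : ∀ x : F, Module.Finite B (Fin (n x.1) → B' x.1) := fun x => Module.Finite.pi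
  haveI : ∀ x : F, Algebra.Etale B (Fin (n x.1) → B' x.1) := fun x => inferInstance
  haveI : Module.Finite B C := Module.Finite.pi
  haveI : Algebra.Etale B C := @Algebra.Etale.mk B C _ _ _ (@Algebra.FormallyEtale.instForallOfFinite B F (fun x => Fin (n x.1) → B' x.1) _ _ _ _ (fun x => inferInstance)) (@Algebra.FinitePresentation.pi B _ F _ (fun x => Fin (n x.1) → B' x.1) _ _ (fun x => inferInstance))
  let h : ∀ x : F, B ⊗[A] R →ₐ[B] B' x.1 ⊗[A] R := fun x =>
    Algebra.TensorProduct.map (Algebra.ofId B (B' x.1)) (AlgHom.id A R)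
  have hh : ∀ x, Function.Surjective (h x) := fun x => by
    intro z
    induction z with
    | zero => exact ⟨0, map_zero _⟩
    | tmul b r =>
      obtain ⟨b', rfl⟩ := hsurj x b
      exact ⟨b' ⊗ₜ r, rfl⟩
    | add z w hz hw =>
      obtain ⟨z', rfl⟩ := hz
      obtain ⟨w', rfl⟩ := hw
      exact ⟨z' + w', map_add _ _ _⟩
  let P : B ⊗[A] R →ₐ[B] C := AlgHom.pi fun x => ((π x.1).restrictScalars B).comp (h x)
  have hPsurj : Function.Surjective P := by
    intro v
    choose z hz using fun x : F => ((hπ x.1).comp (hh x)) (v x)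
    refine ⟨∑ x : F, (Pi.single x 1 : B) ⊗ₜ[A] (1 : R) * z x, funext fun y => ?_⟩
    show π y.1 (h y _) = v y
    rw [map_sum, Finset.sum_eq_single y]
    · rw [map_mul]
      have : h y ((Pi.single y 1 : B) ⊗ₜ[A] (1 : R)) = 1 := by
        show ((Pi.single y 1 : ∀ x : F, B' x.1) y) ⊗ₜ[A] (1 : R) = 1
        rw [Pi.single_eq_same, ← Algebra.TensorProduct.one_def]
      rw [this, one_mul]
      exact hz y
    · intro x _ hxy
      rw [map_mul]
      have : h y ((Pi.single x 1 : B) ⊗ₜ[A] (1 : R)) = 0 := by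
        show ((Pi.single x 1 : ∀ x : F, B' x.1) y) ⊗ₜ[A] (1 : R) = 0
        rw [Pi.single_eq_of_ne hxy.symm, TensorProduct.zero_tmul]
      rw [this, zero_mul]
    · simp
  refine ⟨B, inferInstance, inferInstance, C, inferInstance, inferInstance, P, inferInstance,
    inferInstance, hPsurj, ?_, ?_⟩
  · intro q
    rw [← Set.mem_range, range_comap_of_surjective _ _ hPsurj]
    intro z hz
    -- some idempotent is outside `q`
    obtain ⟨x, hx⟩ : ∃ x : F, (Pi.single x 1 : B) ⊗ₜ[A] (1 : R) ∉ q.asIdeal := by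
      by_contra hc
      refine q.2.ne_top ((Ideal.eq_top_iff_one _).2 ?_)
      have h1 : (1 : B ⊗[A] R) = ∑ x : F, (Pi.single x 1 : B) ⊗ₜ[A] (1 : R) := by
        rw [← TensorProduct.sum_tmul, show (∑ x : F, (Pi.single x 1 : B)) = 1 from
          Finset.univ_sum_single (1 : B)]
        rfl
      rw [h1]
      exact sum_mem fun x _ => not_not.1 fun hn => hc ⟨x, hn⟩
    have hle : RingHom.ker (h x).toRingHom ≤ q.asIdeal := by
      intro w hw
      refine (q.2.mem_or_mem ?_).resolve_left hx
      have key : ∀ w : B ⊗[A] R, h x w = 0 → (Pi.single x 1 : B) ⊗ₜ[A] (1 : R) * w = 0 := by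
        intro w hw
        let back : B' x.1 ⊗[A] R →ₗ[A] B ⊗[A] R :=
          TensorProduct.map (LinearMap.single A (fun x : F => B' x.1) x) LinearMap.id
        have hb : ∀ w, back (h x w) = (Pi.single x 1 : B) ⊗ₜ[A] (1 : R) * w := by
          intro w
          induction w with
          | zero => simp
          | tmul b r =>
            have hmul : (Pi.single x (b x) : ∀ x : F, B' x.1) = Pi.single x 1 * b := funext fun y => by
              rw [Pi.mul_apply]
              by_cases hy : y = x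
              · subst hy; rw [Pi.single_eq_same, Pi.single_eq_same, one_mul]
              · rw [Pi.single_eq_of_ne hy, Pi.single_eq_of_ne hy, zero_mul]
            rw [Algebra.TensorProduct.tmul_mul_tmul, one_mul]
            exact congrArg (fun v : B => v ⊗ₜ[A] r) hmul
          | add a b ha hb => rw [map_add, map_add, ha, hb, mul_add]
        rw [← hb, hw, map_zero]
      rw [key w (RingHom.mem_ker.1 hw)]
      exact zero_mem _
    have hprime : (q.asIdeal.map (h x).toRingHom).IsPrime :=
      Ideal.map_isPrime_of_surjective (hh x) hle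
    have h3 : h x z ∈ q.asIdeal.map (h x).toRingHom :=
      hker x.1 ⟨_, hprime⟩ (RingHom.mem_ker.2 (congrFun (RingHom.mem_ker.1 hz) x))
    have h4 := Ideal.comap_map_of_surjective (h x).toRingHom (hh x) q.asIdeal
    have h5 : z ∈ Ideal.comap (h x).toRingHom (q.asIdeal.map (h x).toRingHom) := h3
    rw [h4, ← RingHom.ker_eq_comap_bot, sup_eq_left.2 hle] at h5
    exact h5
  · intro p
    obtain ⟨x, hx, q, rfl⟩ := hF p
    refine ⟨PrimeSpectrum.comap (Pi.evalRingHom (fun x : F => B' x.1) ⟨x, hx⟩) q, ?_⟩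
    rw [← PrimeSpectrum.comap_comp_apply]
    rfl

end Groth.Agent.QFDecomp
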